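-- LSF (S5286) package [BWDCORE]: along a path all of whose letters are fixed by `lam P`,
-- conjugation by the permutation part is a map of the fusion system.  (helper26)
import Cfsg.Agent.Lib.Helper67.LSF.Defs

set_option autoImplicit false

namespace Cfsg.Agent.Lib.Helper26.LSF

open Cfsg Cfsg.Agent.Lib.Helper67.LSF

universe u

section
variable {Ω : Type u} [Group Ω] {S : Subgroup Ω}

theorem lam_inj26 {a b : S} (h : lam S a = lam S b) : a = b := by
  have h1 := congrArg (fun f : Equiv.Perm S => f 1) h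
  simpa [lam_apply] using h1

theorem sigma_lam26 {F : FusionSystem S} (i : Idx F) (u : i.P) :
    i.σ * lam S ⟨u, (F.le_of_mem i.mem).1 u.2⟩ * i.σ⁻¹ =
      lam S ⟨i.φ u, (F.le_of_mem i.mem).2 u⟩ := by
  refine Equiv.ext fun z => ?_
  rw [Equiv.Perm.mul_apply, Equiv.Perm.mul_apply, lam_apply, i.hσ, lam_apply]
  simp

theorem head_fix26 {F : FusionSystem S} (i : Idx F) (c p : Equiv.Perm S)
    (h : xperm F p ⟨i, (c : Equiv.Perm S ⧸ Lam i)⟩ = ⟨i, (c : Equiv.Perm S ⧸ Lam i)⟩) :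
    c⁻¹ * p * c ∈ Lam i := by
  rw [xperm_mk] at h
  have h1 := eq_of_heq (Sigma.mk.inj h).2
  rw [QuotientGroup.eq] at h1
  have h2 := (Lam i).inv_mem h1
  simpa [mul_assoc] using h2

theorem mem_Lam26 {F : FusionSystem S} (i : Idx F) (y : S) (h : lam S y ∈ Lam i) :
    (y : Ω) ∈ i.P := by
  obtain ⟨u, hu, he⟩ := Subgroup.mem_map.mp h
  have := lam_inj26 he
  subst this
  exact Subgroup.mem_subgroupOf.mp hu

end

theorem pkgBwdCore : PkgHom.{u} → PkgBwdCore.{u} := by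
  intro hHom Ω _ S F L q hpath
  induction hpath with
  | nil s =>
    intro P hP φ hφ _ hconj
    have h1 : φ = conjHom P (s : Ω) := by
      ext x
      have h2 := hconj x
      rw [← map_mul, ← map_inv, ← map_mul] at h2
      have h3 := lam_inj26 h2
      have h4 := congrArg Subtype.val h3
      simpa [conjHom] using h4.symm
    rw [h1]
    exact F.conj_mem hP s.2
  | a s hp ih =>
    rename_i L q
    intro P hP φ hφ hfix hconj
    let ψ : P →* Ω := (MulAut.conj ((s : Ω)⁻¹)).toMonoidHom.comp φ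
    have hψval : ∀ x : P, ψ x = (s : Ω)⁻¹ * φ x * (s : Ω) := by
      intro x
      show (s : Ω)⁻¹ * φ x * ((s : Ω)⁻¹)⁻¹ = _
      rw [inv_inv]
    have hψS : ∀ x : P, ψ x ∈ S := by
      intro x
      rw [hψval]
      exact S.mul_mem (S.mul_mem (S.inv_mem s.2) (hφ x)) s.2
    have hψ : ψ ∈ F.Hom P := by
      apply ih P hP ψ hψS hfix
      intro x
      have h2 := hconj x
      have h3 : (⟨ψ x, hψS x⟩ : S) = s⁻¹ * ⟨φ x, hφ x⟩ * s := by
        apply Subtype.ext
        exact hψval x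
      rw [h3, map_mul, map_mul, ← h2, map_inv]
      group
    have h4 : φ = (conjHom S (s : Ω)).comp (ψ.codRestrict S hψS) := by
      ext x
      show φ x = (s : Ω) * ψ x * (s : Ω)⁻¹
      rw [hψval]
      group
    rw [h4]
    exact F.comp_mem hψ (F.conj_mem le_rfl s.2) hψS
  | t i hp ih =>
    rename_i L q
    intro P hP φ hφ hfix hconj
    have hmem : ∀ x : P, q * lam S ⟨x, hP x.2⟩ * q⁻¹ ∈ Lam i := by
      intro x
      have h1 := head_fix26 i q⁻¹ (lam S ⟨x, hP x.2⟩) (hfix x _ List.mem_cons_self)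
      rwa [inv_inv] at h1
    obtain ⟨ψ, hψS, hψ⟩ := hHom S q P hP (fun x => by
      obtain ⟨u, -, he⟩ := Subgroup.mem_map.mp (hmem x)
      exact ⟨u, he.symm⟩)
    have hψP : ∀ x : P, ψ x ∈ i.P := by
      intro x
      have h1 := hmem x
      rw [← hψ x] at h1
      exact mem_Lam26 i _ h1
    have hψmem : ψ ∈ F.Hom P := by
      apply ih P hP ψ hψS
      · intro x ℓ hℓ
        exact hfix x ℓ (List.mem_cons_of_mem _ hℓ)
      · intro x
        exact (hψ x).symm
    have h4 : φ = i.φ.comp (ψ.codRestrict i.P hψP) := by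
      ext x
      have h2 := hconj x
      have h5 := sigma_lam26 i ⟨ψ x, hψP x⟩
      have h6 : i.σ * q * lam S ⟨x, hP x.2⟩ * (i.σ * q)⁻¹ =
          i.σ * (q * lam S ⟨x, hP x.2⟩ * q⁻¹) * i.σ⁻¹ := by group
      rw [h6, ← hψ x] at h2
      have h7 := lam_inj26 (h2.symm.trans h5)
      exact congrArg Subtype.val h7
    rw [h4]
    exact F.comp_mem hψmem i.mem hψP
  | t' i hp ih =>
    rename_i L q
    intro P hP φ hφ hfix hconj
    have hφP : ∀ x : P, φ x ∈ i.P := by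
      intro x
      have h1 := head_fix26 i (q⁻¹ * i.σ) (lam S ⟨x, hP x.2⟩) (hfix x _ List.mem_cons_self)
      have h2 : (q⁻¹ * i.σ)⁻¹ * lam S ⟨x, hP x.2⟩ * (q⁻¹ * i.σ) =
          i.σ⁻¹ * q * lam S ⟨x, hP x.2⟩ * (i.σ⁻¹ * q)⁻¹ := by group
      rw [h2, hconj x] at h1
      exact mem_Lam26 i _ h1
    let ψ : P →* Ω := i.φ.comp (φ.codRestrict i.P hφP)
    have hψS : ∀ x : P, ψ x ∈ S := fun x => (F.le_of_mem i.mem).2 _
    have hψmem : ψ ∈ F.Hom P := by
      apply ih P hP ψ hψS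
      · intro x ℓ hℓ
        exact hfix x ℓ (List.mem_cons_of_mem _ hℓ)
      · intro x
        have h5 := sigma_lam26 i ⟨φ x, hφP x⟩
        have h2 := hconj x
        have h6 : q * lam S ⟨x, hP x.2⟩ * q⁻¹ =
            i.σ * (i.σ⁻¹ * q * lam S ⟨x, hP x.2⟩ * (i.σ⁻¹ * q)⁻¹) * i.σ⁻¹ := by group
        rw [h6, h2]
        exact h5
    obtain ⟨χ, hχmem, hχ⟩ := F.inv_mem i.mem
    have hψR : ∀ x : P, ψ x ∈ i.φ.range := fun x => ⟨⟨φ x, hφP x⟩, rfl⟩
    have h4 : φ = χ.comp (ψ.codRestrict i.φ.range hψR) := by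
      ext x
      exact (hχ ⟨φ x, hφP x⟩).symm
    rw [h4]
    exact F.comp_mem hψmem hχmem hψR

end Cfsg.Agent.Lib.Helper26.LSF
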